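import Groth.Agent.Lib.Hens.System
import Groth.Agent.Lib.Hens.PairOps
import Groth.Agent.Lib.Hens.SmoothLift
import Mathlib.RingTheory.Kaehler.Basic
import Mathlib.RingTheory.Unramified.Basic
import Mathlib.RingTheory.Filtration

/-!
# Homomorphisms out of rig-unramified algebras descend from the completion to the henselian pair

If `B` is a finite type `A`-algebra which is unramified after inverting each element of a family
generating `I`, and `(R, IR)` is a noetherian henselian pair over `A`, then every compatible family of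
maps `B → R/I^k` comes from exactly one map `B → R`.
-/

set_option autoImplicit false
set_option linter.style.haveILetI false

universe u

open MvPolynomial

namespace Groth.Agent.ElkikUniqH7

section Data

variable {A B : Type u} [CommRing A] [CommRing B] [Algebra A B] {n : ℕ}
  (π : MvPolynomial (Fin n) A →ₐ[A] B)

/-- the rows of Jacobians of relations -/
noncomputable def jacRows (hπ : Function.Surjective π) : Submodule B (Fin n → B) where
  carrier := {v | ∃ h, π h = 0 ∧ v = fun j => π (pderiv j h)}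
  add_mem' := by
    rintro _ _ ⟨h, hh, rfl⟩ ⟨k, hk, rfl⟩
    exact ⟨h + k, by rw [map_add, hh, hk, add_zero], by ext j; simp⟩
  zero_mem' := ⟨0, map_zero _, by ext j; simp⟩
  smul_mem' := by
    rintro b _ ⟨h, hh, rfl⟩
    obtain ⟨p, rfl⟩ := hπ b
    exact ⟨p * h, by rw [map_mul, hh, mul_zero], by ext j; simp [hh]⟩

/-- the universal derivation into the cokernel of the Jacobian -/
noncomputable def jacDeriv (hπ : Function.Surjective π) :
    Derivation A B ((Fin n → B) ⧸ jacRows π hπ) := by
  have key : ∀ h, Submodule.Quotient.mk (p := jacRows π hπ)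
      (fun j => π (pderiv j (Function.surjInv hπ (π h)))) =
      Submodule.Quotient.mk (fun j => π (pderiv j h)) := fun h => by
    rw [Submodule.Quotient.eq]
    exact ⟨Function.surjInv hπ (π h) - h, by rw [map_sub, Function.surjInv_eq hπ, sub_self],
      by ext j; simp⟩
  refine Derivation.mk'
    { toFun := fun b => Submodule.Quotient.mk (fun j => π (pderiv j (Function.surjInv hπ b)))
      map_add' := fun b b' => ?_
      map_smul' := fun a b => ?_ } ?_
  · obtain ⟨p, rfl⟩ := hπ b
    obtain ⟨q, rfl⟩ := hπ b'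
    rw [← map_add, key, key, key, ← Submodule.Quotient.mk_add]
    congr 1
    ext j
    simp
  · obtain ⟨p, rfl⟩ := hπ b
    rw [← map_smul, key, key, RingHom.id_apply, ← Submodule.Quotient.mk_smul]
    congr 1
    ext j
    simp
  · intro b b'
    obtain ⟨p, rfl⟩ := hπ b
    obtain ⟨q, rfl⟩ := hπ b'
    show Submodule.Quotient.mk _ = π p • Submodule.Quotient.mk _ + π q • Submodule.Quotient.mk _
    rw [← map_mul, key, key, key, ← Submodule.Quotient.mk_smul, ← Submodule.Quotient.mk_smul,
      ← Submodule.Quotient.mk_add]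
    congr 1
    ext j
    simp

theorem jacDeriv_apply (hπ : Function.Surjective π) (h : MvPolynomial (Fin n) A) :
    jacDeriv π hπ (π h) = Submodule.Quotient.mk (fun j => π (pderiv j h)) := by
  show Submodule.Quotient.mk _ = _
  rw [Submodule.Quotient.eq]
  exact ⟨Function.surjInv hπ (π h) - h, by rw [map_sub, Function.surjInv_eq hπ, sub_self],
    by ext j; simp⟩

/-- Where `B` is unramified, a power of the element is in the Jacobian ideal, diagonally. -/
theorem exists_relations (hπ : Function.Surjective π) (a : A)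
    (hB : Algebra.FormallyUnramified A (Localization.Away (algebraMap A B a))) :
    ∃ c : ℕ, ∀ c', c ≤ c' → ∀ i : Fin n, ∃ g, π g = 0 ∧
      ∀ j, π (pderiv j g) = if i = j then algebraMap A B a ^ c' else 0 := by
  classical
  let Ba := Localization.Away (algebraMap A B a)
  have h0 : ∀ i, ∃ c : ℕ, algebraMap A B a ^ c • KaehlerDifferential.D A B (π (X i)) = 0 := fun i => by
    have h1 : KaehlerDifferential.map A A B Ba (KaehlerDifferential.D A B (π (X i))) = 0 :=
      Subsingleton.elim _ _
    obtain ⟨⟨s, c, rfl⟩, hs⟩ :=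
      (IsLocalizedModule.eq_zero_iff (Submonoid.powers (algebraMap A B a))
        (KaehlerDifferential.map A A B Ba)).1 h1
    exact ⟨c, hs⟩
  choose c hc using h0
  refine ⟨Finset.univ.sup c, fun c' hc' i => ?_⟩
  have h2 := congrArg (jacDeriv π hπ).liftKaehlerDifferential (hc i)
  rw [map_smul, Derivation.liftKaehlerDifferential_comp_D, jacDeriv_apply, map_zero] at h2
  obtain ⟨d, hd⟩ := Nat.exists_eq_add_of_le ((Finset.le_sup (f := c) (Finset.mem_univ i)).trans hc')
  have h3 : algebraMap A B a ^ c' • Submodule.Quotient.mk (p := jacRows π hπ)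
      (fun j => π (pderiv j (X i))) = 0 := by
    rw [hd, add_comm (c i), pow_add, mul_smul, h2, smul_zero]
  rw [← Submodule.Quotient.mk_smul, Submodule.Quotient.mk_eq_zero] at h3
  obtain ⟨g, hg, hg'⟩ := h3
  refine ⟨g, hg, fun j => ?_⟩
  rw [← congrFun hg' j, Pi.smul_apply, pderiv_X]
  rcases eq_or_ne i j with rfl | hij
  · simp
  · simp [hij, hij.symm]

end Data

section Taylor

variable {R : Type u} [CommRing R] {n : ℕ}

/-- Taylor expansion to second order, in the ideal of the increments. -/
theorem taylor_sub_mem (x d : Fin n → R) (p : MvPolynomial (Fin n) R) :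
    eval (fun j => x j + d j) p - eval x p - ∑ j, eval x (pderiv j p) * d j ∈
      Ideal.span (Set.range d) * Ideal.span (Set.range d) := by
  let e : Fin n → MvPolynomial (Fin n) R := fun j => C (-d j)
  have h := Groth.Agent.Hens.taylor_mem_sq (Ideal.span (Set.range e)) e
    (fun k => Ideal.subset_span ⟨k, rfl⟩) p
  have h2 := Ideal.mem_map_of_mem (eval x) h
  have he : Ideal.map (eval x) (Ideal.span (Set.range e)) ≤ Ideal.span (Set.range d) := by
    rw [Ideal.map_span, Ideal.span_le]
    rintro _ ⟨_, ⟨k, rfl⟩, rfl⟩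
    simp only [e, eval_C]
    exact neg_mem (Ideal.subset_span ⟨k, rfl⟩)
  rw [Ideal.map_mul] at h2
  have h3 := Ideal.mul_mono he he h2
  have hc : eval x (aeval (fun k => X k - e k) p) = eval (fun j => x j + d j) p := by
    show (eval x).comp (aeval (fun k => X k - e k)).toRingHom p = _
    congr 1
    apply MvPolynomial.ringHom_ext <;> intro r <;> simp [e]
  rw [map_sub, map_sub, map_sum, hc] at h3
  convert h3 using 1
  simp only [map_mul, e, eval_C, mul_neg, Finset.sum_neg_distrib]
  ring

/-- Taylor expansion with increments divisible by `t`. -/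
theorem exists_taylor_scaled (x d : Fin n → R) (t : R) (hd : ∀ j, t ∣ d j) (p : MvPolynomial (Fin n) R) :
    ∃ S : Fin n → R, eval (fun j => x j + d j) p - eval x p =
      ∑ j, (eval x (pderiv j p) + t * S j) * d j := by
  have hle : Ideal.span (Set.range d) ≤ Ideal.span {t} := by
    rw [Ideal.span_le]
    rintro _ ⟨j, rfl⟩
    exact Ideal.mem_span_singleton.2 (hd j)
  obtain ⟨y, hy, hy'⟩ := Ideal.mem_span_singleton_mul.1
    (Ideal.mul_mono hle le_rfl (taylor_sub_mem x d p))
  obtain ⟨S, rfl⟩ := Ideal.mem_span_range_iff_exists_fun.1 hy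
  refine ⟨S, ?_⟩
  rw [sub_eq_iff_eq_add.1 hy'.symm]
  simp only [Finset.mul_sum, add_mul, Finset.sum_add_distrib, mul_assoc]
  ring

end Taylor

section Principal

variable {R : Type u} [CommRing R] {n : ℕ}

/-- A matrix congruent to the identity modulo `a` in the radical is invertible. -/
theorem isUnit_det_of_sub_one_dvd (a : R) (ha : Ideal.span {a} ≤ Ideal.jacobson ⊥)
    (M : Matrix (Fin n) (Fin n) R) (hM : ∀ i j, a ∣ M i j - (if i = j then 1 else 0)) :
    IsUnit M.det := by
  refine Groth.Agent.Hens.isUnit_of_isUnit_mk ha ?_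
  have : (Ideal.Quotient.mk (Ideal.span {a})).mapMatrix M = 1 := by
    ext i j
    rw [RingHom.mapMatrix_apply, Matrix.map_apply, Matrix.one_apply]
    rw [show (if i = j then (1 : R ⧸ Ideal.span {a}) else 0) =
      Ideal.Quotient.mk (Ideal.span {a}) (if i = j then 1 else 0) by split <;> simp,
      Ideal.Quotient.eq, Ideal.mem_span_singleton]
    exact hM i j
  rw [RingHom.map_det, this, Matrix.det_one]
  exact isUnit_one

/-- Newton: an approximate zero of a system with Jacobian `a^c` becomes a zero. -/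
theorem exists_zero_of_approx (a : R) (h : HenselianRing R (Ideal.span {a})) (c : ℕ)
    (g : Fin n → MvPolynomial (Fin n) R) (x₀ : Fin n → R)
    (h₀ : ∀ i, a ^ (2 * c + 2) ∣ eval x₀ (g i))
    (hj : ∀ i j, a ^ (c + 1) ∣ eval x₀ (pderiv j (g i)) - if i = j then a ^ c else 0) :
    ∃ x : Fin n → R, (∀ i, eval x (g i) = 0) ∧ ∀ j, a ^ (c + 1) ∣ x j - x₀ j := by
  classical
  let t := a ^ (c + 1)
  choose g₀ hg₀ using h₀
  choose E hE using hj
  have key : ∀ i, ∃ S : Fin n → MvPolynomial (Fin n) R,
      eval (fun j => C (x₀ j) + C t * X j) (map (C (σ := Fin n)) (g i)) - C (eval x₀ (g i)) =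
        ∑ j, (C (eval x₀ (pderiv j (g i))) + C t * S j) * (C t * X j) := fun i => by
    obtain ⟨S, hS⟩ := exists_taylor_scaled (fun j => C (σ := Fin n) (x₀ j)) (fun j => C t * X j)
      (C t) (fun j => dvd_mul_right _ _) (map (C (σ := Fin n)) (g i))
    refine ⟨S, ?_⟩
    have hev : ∀ q : MvPolynomial (Fin n) R,
        eval (fun j => C (σ := Fin n) (x₀ j)) (map C q) = C (eval x₀ q) := fun q => by
      rw [eval_map]
      exact (eval₂_comp _ _ _).symm
    simpa only [hev, pderiv_map] using hS
  choose S hS using key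
  let G : Fin n → MvPolynomial (Fin n) R := fun i =>
    C (a * g₀ i) + ∑ j, (C ((if i = j then 1 else 0) + a * E i j) + C a * S i j) * X j
  have hscale : ∀ i (z : Fin n → R),
      eval (fun j => x₀ j + t * z j) (g i) = a ^ (2 * c + 1) * eval z (G i) := by
    intro i z
    have h1 := congrArg (eval z) (hS i)
    have hz : eval z (eval (fun j => C (x₀ j) + C t * X j) (map (C (σ := Fin n)) (g i))) =
        eval (fun j => x₀ j + t * z j) (g i) := by
      rw [eval_map, eval₂_comp_left (eval z)]
      have : (eval z).comp (C (R := R) (σ := Fin n)) = RingHom.id R := RingHom.ext fun r => eval_C r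
      rw [this]
      congr 1
      ext j
      simp
    rw [map_sub, hz, eval_C, map_sum, sub_eq_iff_eq_add] at h1
    rw [h1]
    simp only [G, map_add, map_sum, map_mul, eval_C, eval_X]
    rw [mul_add, Finset.mul_sum, hg₀ i, add_comm]
    congr 1
    · ring
    · refine Finset.sum_congr rfl fun j _ => ?_
      have hh : eval x₀ (pderiv j (g i)) = a ^ (c + 1) * E i j + if i = j then a ^ c else 0 := by
        rw [← hE i j]; ring
      rw [hh]
      rcases eq_or_ne i j with rfl | hij
      · simp only [if_pos, if_true, t]; ring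
      · simp only [if_neg hij, t]; ring
  obtain ⟨z, hz, -⟩ := Groth.Agent.Hens.exists_zero_of_isUnit_jacDet h G (fun _ => 0)
    (fun i => by
      refine Ideal.mem_span_singleton.2 ⟨g₀ i, ?_⟩
      simp [G])
    (by
      refine IsUnit.map _ ?_
      rw [Groth.Agent.Hens.jacDet, RingHom.map_det]
      refine isUnit_det_of_sub_one_dvd a h.jac _ fun i j => ?_
      refine ⟨E i j + eval (fun _ => 0) (S i j), ?_⟩
      simp only [RingHom.mapMatrix_apply, Matrix.map_apply, Matrix.of_apply, G, map_add, map_sum,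
        pderiv_C, pderiv_mul, pderiv_X, map_mul, eval_X, eval_C, zero_add, mul_zero, map_zero]
      rw [Finset.sum_eq_single j (fun k _ hk => by simp [hk])
        (fun hh => absurd (Finset.mem_univ j) hh)]
      simp
      ring)
  exact ⟨fun j => x₀ j + t * z j, fun i => by rw [hscale, hz, mul_zero],
    fun j => ⟨z j, by rw [add_sub_cancel_left]⟩⟩

/-- Rigidity: a zero and an approximate zero which are close are congruent. -/
theorem dvd_sub_of_approx (a : R) (ha : Ideal.span {a} ≤ Ideal.jacobson ⊥) (c k : ℕ)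
    (hk : 2 * c + 1 ≤ k) (he : ∀ r : R, a ^ (2 * c + 1) * r = 0 → a ^ c * r = 0)
    (g : Fin n → MvPolynomial (Fin n) R) (x y : Fin n → R)
    (hj : ∀ i j, a ^ (c + 1) ∣ eval x (pderiv j (g i)) - if i = j then a ^ c else 0)
    (hx : ∀ i, eval x (g i) = 0) (hy : ∀ i, a ^ k ∣ eval y (g i))
    (hxy : ∀ j, a ^ (c + 1) ∣ y j - x j) :
    ∀ j, a ^ (k - c) ∣ y j - x j := by
  classical
  choose S hS using fun i => exists_taylor_scaled x (fun j => y j - x j) (a ^ (c + 1)) hxy (g i)
  choose E hE using hj
  let M : Matrix (Fin n) (Fin n) R := Matrix.of fun i j => (if i = j then 1 else 0) + a * (E i j + S i j)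
  have hM : IsUnit M.det := isUnit_det_of_sub_one_dvd a ha M fun i j => ⟨E i j + S i j, by simp [M]⟩
  let d : Fin n → R := fun j => y j - x j
  let q : R →+* R ⧸ Ideal.span {a ^ k} := Ideal.Quotient.mk _
  have hMd : (q.mapMatrix M).mulVec (fun j => q (a ^ c * d j)) = 0 := by
    ext i
    have h1 := hy i
    rw [show eval y (g i) = eval (fun j => x j + (y j - x j)) (g i) by simp] at h1
    have h2 := hS i
    rw [hx i, sub_zero] at h2
    rw [h2, ← Ideal.mem_span_singleton, ← Ideal.Quotient.eq_zero_iff_mem, map_sum] at h1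
    refine Eq.trans ?_ h1
    show ∑ j : Fin n, q.mapMatrix M i j * q (a ^ c * d j) = _
    refine Finset.sum_congr rfl fun j _ => ?_
    simp only [RingHom.mapMatrix_apply, Matrix.map_apply, ← map_mul, q]
    congr 1
    have hh : eval x (pderiv j (g i)) = a ^ (c + 1) * E i j + if i = j then a ^ c else 0 := by
      rw [← hE i j]; ring
    rw [hh]
    rcases eq_or_ne i j with rfl | hij
    · simp only [M, d, Matrix.of_apply, if_pos, if_true]; ring
    · simp only [M, d, Matrix.of_apply, if_neg hij]; ring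
  have hd0 : (fun j => q (a ^ c * d j)) = 0 :=
    Matrix.mulVec_injective_of_isUnit (A := q.mapMatrix M) ((Matrix.isUnit_iff_isUnit_det _).2
      (by rw [← RingHom.map_det]; exact hM.map q)) (by rw [hMd, Matrix.mulVec_zero])
  intro j
  obtain ⟨r, hr⟩ := Ideal.mem_span_singleton.1 (Ideal.Quotient.eq_zero_iff_mem.1 (congrFun hd0 j))
  obtain ⟨w, hw⟩ := hxy j
  have hsplit : a ^ k = a ^ c * a ^ (k - c) := by rw [← pow_add]; congr 1; omega
  have hsplit' : a ^ (k - c) = a ^ (c + 1) * a ^ (k - c - (c + 1)) := by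
    rw [← pow_add]; congr 1; omega
  refine ⟨r, ?_⟩
  have h3 : a ^ (2 * c + 1) * (w - a ^ (k - c - (c + 1)) * r) = 0 := by
    rw [show 2 * c + 1 = c + (c + 1) by omega, pow_add]
    have : a ^ c * (a ^ (c + 1) * w) = a ^ c * (a ^ (c + 1) * (a ^ (k - c - (c + 1)) * r)) := by
      rw [← hw, ← mul_assoc (a ^ (c + 1)), ← hsplit', ← mul_assoc, ← hsplit]
      exact hr
    linear_combination this
  have h4 := he _ h3
  rw [hw, hsplit']
  linear_combination a * h4

/-- Bounded torsion. -/
theorem exists_torsion_bound [IsNoetherianRing R] (a : R) :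
    ∃ e : ℕ, ∀ c, e ≤ c → ∀ k (r : R), a ^ (c + k) * r = 0 → a ^ c * r = 0 := by
  let f : ℕ →o Ideal R :=
    ⟨fun c => LinearMap.ker (LinearMap.mulLeft R (a ^ c)), fun c c' h r hr => by
      simp only [LinearMap.mem_ker, LinearMap.mulLeft_apply] at hr ⊢
      obtain ⟨d, rfl⟩ := Nat.exists_eq_add_of_le h
      rw [add_comm, pow_add, mul_assoc, hr, mul_zero]⟩
  obtain ⟨e, he⟩ := monotone_stabilizes_iff_noetherian.2 (inferInstance : IsNoetherian R R) f
  refine ⟨e, fun c hc k r hr => ?_⟩
  have h1 : r ∈ f (c + k) := LinearMap.mem_ker.2 hr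
  rw [← he (c + k) (by omega), he c hc] at h1
  exact LinearMap.mem_ker.1 h1

end Principal

section Descend

variable {A : Type u} [CommRing A] {B : Type u} [CommRing B] [Algebra A B]
  {R : Type u} [CommRing R] [Algebra A R]

/-- compatible families of maps to the thickenings -/
def Compat (I : Ideal R) (f : ∀ k, B →ₐ[A] R ⧸ I ^ k) : Prop :=
  ∀ j k, j ≤ k → ∀ b z, Ideal.Quotient.mk (I ^ k) z = f k b → Ideal.Quotient.mk (I ^ j) z = f j b

/-- maps to a noetherian ring congruent modulo all powers of an ideal in the radical agree -/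
theorem eq_of_forall_sub_mem [IsNoetherianRing R] {I : Ideal R} (hI : I ≤ Ideal.jacobson ⊥) {x y : R}
    (h : ∀ k : ℕ, x - y ∈ I ^ k) : x = y := by
  have hb := Ideal.iInf_pow_smul_eq_bot_of_le_jacobson (M := R) I hI
  rw [← sub_eq_zero, ← Submodule.mem_bot R, ← hb, Submodule.mem_iInf]
  intro k
  rw [smul_eq_mul, Ideal.mul_top]
  exact h k

/-- Descent along a principal ideal. -/
theorem exists_hom_principal [IsNoetherianRing R] [Algebra.FiniteType A B] (a : A)
    (hB : Algebra.FormallyUnramified A (Localization.Away (algebraMap A B a)))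
    (aR : R) (haR : algebraMap A R a = aR)
    (h : HenselianRing R (Ideal.span {aR}))
    (f : ∀ k, B →ₐ[A] R ⧸ Ideal.span {aR} ^ k)
    (hf : Compat (Ideal.span {aR}) f) :
    ∃ ψ : B →ₐ[A] R, ∀ k b, Ideal.Quotient.mk _ (ψ b) = f k b := by
  classical
  obtain ⟨n, π, hπ⟩ := Algebra.FiniteType.iff_quotient_mvPolynomial''.1 ‹Algebra.FiniteType A B›
  obtain ⟨c₁, hc₁⟩ := exists_relations π hπ a hB
  obtain ⟨e, he⟩ := exists_torsion_bound aR
  set c := max c₁ e
  choose g hg hgj using hc₁ c (le_max_left _ _)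
  have hmem : ∀ k (z : R), z ∈ Ideal.span {aR} ^ k ↔ aR ^ k ∣ z := fun k z => by
    rw [Ideal.span_singleton_pow, Ideal.mem_span_singleton]
  choose x hx using fun k j => Ideal.Quotient.mk_surjective (f k (π (X j)))
  have hP : ∀ k p, Ideal.Quotient.mk (Ideal.span {aR} ^ k) (aeval (x k) p) = f k (π p) := fun k p => by
    have : (Ideal.Quotient.mkₐ A (Ideal.span {aR} ^ k)).comp (aeval (x k)) = (f k).comp π :=
      algHom_ext fun j => by simp [hx]
    exact congr($this p)
  have hxx : ∀ j k, j ≤ k → ∀ i, aR ^ j ∣ x k i - x j i := fun j k hjk i => by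
    rw [← hmem, ← Ideal.Quotient.eq, hf j k hjk _ _ (hx k i), hx]
  let gR : Fin n → MvPolynomial (Fin n) R := fun i => map (algebraMap A R) (g i)
  have hev : ∀ (y : Fin n → R) p, eval y (map (algebraMap A R) p) = aeval y p := fun y p => by
    rw [eval_map, aeval_def]
  have hzero : ∀ k i, aR ^ k ∣ eval (x k) (gR i) := fun k i => by
    rw [hev, ← hmem, ← Ideal.Quotient.eq_zero_iff_mem, hP, hg, map_zero]
  have hjac : ∀ k, c + 1 ≤ k → ∀ i j,
      aR ^ (c + 1) ∣ eval (x k) (pderiv j (gR i)) - if i = j then aR ^ c else 0 := by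
    intro k hk i j
    refine (pow_dvd_pow aR hk).trans ?_
    rw [pderiv_map, hev, ← hmem, ← Ideal.Quotient.eq, hP, hgj]
    rcases eq_or_ne i j with rfl | hij
    · rw [if_pos rfl, if_pos rfl, map_pow, AlgHom.commutes, ← haR, ← map_pow, ← map_pow]; rfl
    · rw [if_neg hij, if_neg hij, map_zero, map_zero]
  obtain ⟨y, hy, hy'⟩ := exists_zero_of_approx aR h c gR (x (2 * c + 2)) (hzero _)
    (hjac _ (by omega))
  have hjy : ∀ i j, aR ^ (c + 1) ∣ eval y (pderiv j (gR i)) - if i = j then aR ^ c else 0 := by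
    intro i j
    have h1 := hjac (2 * c + 2) (by omega) i j
    have h2 : aR ^ (c + 1) ∣ eval y (pderiv j (gR i)) - eval (x (2 * c + 2)) (pderiv j (gR i)) := by
      have hv : (fun l => Ideal.Quotient.mk (Ideal.span {aR ^ (c + 1)}) (y l)) =
          fun l => Ideal.Quotient.mk (Ideal.span {aR ^ (c + 1)}) (x (2 * c + 2) l) := by
        ext l
        rw [Ideal.Quotient.eq, Ideal.mem_span_singleton]
        exact hy' l
      rw [← Ideal.mem_span_singleton, ← Ideal.Quotient.eq, eval₂_comp, eval₂_comp]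
      exact congrArg (fun w => eval₂ _ w _) hv
    have := dvd_add h1 h2
    rw [sub_add_sub_cancel'] at this
    exact this
  have hclose : ∀ k i, aR ^ k ∣ y i - x k i := by
    intro k i
    obtain ⟨K, hK, hK'⟩ : ∃ K, k + c ≤ K ∧ 2 * c + 2 ≤ K := ⟨k + c + (2 * c + 2), by omega, by omega⟩
    have h1 := dvd_sub_of_approx aR h.jac c K (by omega)
      (fun r hr => he c (le_max_right _ _) (c + 1) r (by
        rw [show c + (c + 1) = 2 * c + 1 by omega]; exact hr))
      gR y (x K) hjy hy (hzero K) (fun j => by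
        have h2 := (pow_dvd_pow aR (show c + 1 ≤ 2 * c + 2 by omega)).trans (hxx (2 * c + 2) K hK' j)
        have := dvd_sub h2 (hy' j)
        rwa [sub_sub_sub_cancel_right] at this) i
    have h2 := (pow_dvd_pow aR (show k ≤ K - c by omega)).trans h1
    have h3 := dvd_sub (hxx k K (by omega) i) h2
    rwa [sub_sub_sub_cancel_left] at h3
  have hk : ∀ k p, Ideal.Quotient.mk (Ideal.span {aR} ^ k) (aeval y p) = f k (π p) := fun k p => by
    have : (Ideal.Quotient.mkₐ A (Ideal.span {aR} ^ k)).comp (aeval y) = (f k).comp π :=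
      algHom_ext fun j => by
        simp only [AlgHom.comp_apply, aeval_X, Ideal.Quotient.mkₐ_eq_mk]
        rw [← hx, Ideal.Quotient.eq, hmem]
        exact hclose k j
    exact congr($this p)
  have hker : RingHom.ker π ≤ RingHom.ker (aeval (R := A) y) := fun p hp => by
    refine eq_of_forall_sub_mem h.jac fun k => ?_
    rw [sub_zero, ← Ideal.Quotient.eq_zero_iff_mem, hk, show π p = 0 from hp, map_zero]
  refine ⟨AlgHom.liftOfSurjective π hπ (aeval y) hker, fun k b => ?_⟩
  obtain ⟨p, rfl⟩ := hπ b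
  erw [AlgHom.liftOfSurjective_apply]
  exact hk k p

end Descend

section Induction

variable {A : Type u} [CommRing A] {B : Type u} [CommRing B] [Algebra A B]

/-- the ideal generated in `R` by a list in `A` -/
noncomputable def lspan (R : Type u) [CommRing R] [Algebra A R] (l : List A) : Ideal R :=
  (Ideal.span {x | x ∈ l}).map (algebraMap A R)

theorem lspan_cons (R : Type u) [CommRing R] [Algebra A R] (a : A) (l : List A) :
    lspan R (a :: l) = Ideal.span {algebraMap A R a} ⊔ lspan R l := by
  have : {x | x ∈ a :: l} = {a} ∪ {x | x ∈ l} := by ext x; simp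
  rw [lspan, this, Ideal.span_union, Ideal.map_sup, Ideal.map_span, Set.image_singleton, lspan]

theorem exists_hom_list [Algebra.FiniteType A B] (l : List A)
    (hl : ∀ a ∈ l, Algebra.FormallyUnramified A (Localization.Away (algebraMap A B a))) :
    ∀ (R : Type u) [CommRing R] [Algebra A R] [IsNoetherianRing R],
      HenselianRing R (lspan R l) → ∀ f : ∀ k, B →ₐ[A] R ⧸ lspan R l ^ k, Compat (lspan R l) f →
      ∃ ψ : B →ₐ[A] R, ∀ k b, Ideal.Quotient.mk _ (ψ b) = f k b := by
  induction l with
  | nil =>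
    intro R _ _ _ _ f hf
    have hbot : lspan R ([] : List A) ^ 1 = ⊥ := by simp [lspan]
    let ψ : B →ₐ[A] R :=
      (((Ideal.quotientEquivAlgOfEq A hbot).trans (AlgEquiv.quotientBot A R)).toAlgHom).comp (f 1)
    have h1 : ∀ b z, Ideal.Quotient.mk (lspan R ([] : List A) ^ 1) z = f 1 b → ψ b = z := by
      intro b z hz
      show AlgEquiv.quotientBot A R (Ideal.quotientEquivAlgOfEq A hbot (f 1 b)) = z
      rw [← hz, Ideal.quotientEquivAlgOfEq_mk]
      rfl
    refine ⟨ψ, fun k b => ?_⟩
    rcases Nat.eq_zero_or_pos k with rfl | hk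
    · obtain ⟨z, hz⟩ := Ideal.Quotient.mk_surjective (f 0 b)
      rw [← hz, Ideal.Quotient.eq, pow_zero, Ideal.one_eq_top]
      exact Submodule.mem_top
    · obtain ⟨z, hz⟩ := Ideal.Quotient.mk_surjective (f k b)
      rw [h1 b z (hf 1 k hk b z hz), hz]
  | cons a l ih =>
    intro R _ _ _ h f hf
    have ih' := ih fun x hx => hl x (List.mem_cons_of_mem _ hx)
    set J := Ideal.span {algebraMap A R a}
    set L := lspan R l
    have hsum : lspan R (a :: l) = J ⊔ L := lspan_cons R a l
    have hL : ∀ m, lspan (R ⧸ J ^ m) l = L.map (Ideal.Quotient.mk (J ^ m)) := fun m => by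
      rw [show L = (Ideal.span {x | x ∈ l}).map (algebraMap A R) from rfl, Ideal.map_map]
      rfl
    have hle : ∀ m k, lspan R (a :: l) ^ (m + k) ≤ J ^ m ⊔ L ^ k := fun m k => by
      rw [hsum]; exact Ideal.sup_pow_add_le_pow_sup_pow
    have hq : ∀ m k (y z : R),
        Ideal.Quotient.mk (lspan (R ⧸ J ^ m) l ^ k) (Ideal.Quotient.mk (J ^ m) y) =
          Ideal.Quotient.mk (lspan (R ⧸ J ^ m) l ^ k) (Ideal.Quotient.mk (J ^ m) z) ↔
        y - z ∈ J ^ m ⊔ L ^ k := fun m k y z => by
      rw [Ideal.Quotient.eq, ← map_sub, hL, ← Ideal.map_pow,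
        Ideal.mem_quotient_iff_mem_sup, sup_comm]
    let q : ∀ m k, R →ₐ[A] (R ⧸ J ^ m) ⧸ lspan (R ⧸ J ^ m) l ^ k := fun m k =>
      (Ideal.Quotient.mkₐ A _).comp (Ideal.Quotient.mkₐ A (J ^ m))
    have hker : ∀ m k, ∀ y ∈ lspan R (a :: l) ^ (m + k), q m k y = 0 := fun m k y hy => by
      have := (hq m k y 0).2 (by rw [sub_zero]; exact hle m k hy)
      simpa [q] using this
    let f' : ∀ m k, B →ₐ[A] (R ⧸ J ^ m) ⧸ lspan (R ⧸ J ^ m) l ^ k := fun m k =>
      (Ideal.Quotient.liftₐ (lspan R (a :: l) ^ (m + k)) (q m k) (hker m k)).comp (f (m + k))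
    have hf' : ∀ m k N, m + k ≤ N → ∀ b z, Ideal.Quotient.mk _ z = f N b →
        f' m k b = Ideal.Quotient.mk _ (Ideal.Quotient.mk (J ^ m) z) := by
      intro m k N hN b z hz
      show Ideal.Quotient.liftₐ _ (q m k) (hker m k) (f (m + k) b) = _
      rw [← hf (m + k) N hN b z hz]
      rfl
    have hc' : ∀ m, Compat (lspan (R ⧸ J ^ m) l) (f' m) := by
      intro m j k hjk b w hw
      obtain ⟨z, hz⟩ := Ideal.Quotient.mk_surjective (f (m + k) b)
      obtain ⟨y, rfl⟩ := Ideal.Quotient.mk_surjective w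
      rw [hf' m k _ le_rfl b z hz, hq] at hw
      rw [hf' m j _ (by omega) b z hz, hq]
      exact (show J ^ m ⊔ L ^ k ≤ J ^ m ⊔ L ^ j from sup_le_sup le_rfl (Ideal.pow_le_pow_right hjk)) hw
    have hLle : L ≤ lspan R (a :: l) := by rw [hsum]; exact le_sup_right
    have hhens : ∀ m, HenselianRing (R ⧸ J ^ m) (lspan (R ⧸ J ^ m) l) := fun m => by
      rw [hL]
      exact Groth.Agent.Hens.henselianRing_of_isIntegral
        (Groth.Agent.Hens.henselianRing_of_le (I := L) h hLle)
    choose ψm hψm using fun m => ih' (R ⧸ J ^ m) (hhens m) (f' m) (hc' m)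
    have hcomp : Compat J ψm := by
      intro m m' hmm b y hy
      refine eq_of_forall_sub_mem (hhens m).jac fun k => ?_
      rw [← Ideal.Quotient.eq, hψm]
      obtain ⟨z, hz⟩ := Ideal.Quotient.mk_surjective (f (m' + k) b)
      have h1 : Ideal.Quotient.mk (lspan (R ⧸ J ^ m') l ^ k) (Ideal.Quotient.mk (J ^ m') y) =
          Ideal.Quotient.mk _ (Ideal.Quotient.mk (J ^ m') z) := by
        rw [hy, hψm, hf' m' k _ le_rfl b z hz]
      rw [hq] at h1
      rw [hf' m k _ (by omega) b z hz, hq]
      exact (show J ^ m' ⊔ L ^ k ≤ J ^ m ⊔ L ^ k from sup_le_sup (Ideal.pow_le_pow_right hmm) le_rfl) h1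
    obtain ⟨ψ, hψ⟩ := exists_hom_principal a (hl a List.mem_cons_self) _ rfl
      (Groth.Agent.Hens.henselianRing_of_le h (by rw [hsum]; exact le_sup_left)) ψm hcomp
    refine ⟨ψ, fun k b => ?_⟩
    obtain ⟨z, hz⟩ := Ideal.Quotient.mk_surjective (f (k + k) b)
    rw [← hf k (k + k) (by omega) b z hz, Ideal.Quotient.eq]
    have h1 : Ideal.Quotient.mk (lspan (R ⧸ J ^ k) l ^ k) (Ideal.Quotient.mk (J ^ k) (ψ b)) =
        Ideal.Quotient.mk _ (Ideal.Quotient.mk (J ^ k) z) := by
      rw [hψ, hψm, hf' k k _ le_rfl b z hz]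
    rw [hq] at h1
    refine sup_le (Ideal.pow_right_mono ?_ k) (Ideal.pow_right_mono hLle k) h1
    rw [hsum]; exact le_sup_left

end Induction

end Groth.Agent.ElkikUniqH7
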